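import Mathlib
import Cfsg.Prelude.Def_Spor_ON
import Cfsg.Agent.H93.CosetCox
import Cfsg.Agent.H93.CosetFast

/-!
A checked coset table (generated data).
-/

set_option autoImplicit false
set_option maxRecDepth 100000
set_option linter.all false
set_option Elab.async false

namespace H93
namespace ONHD

open Coset

noncomputable section

noncomputable def tT0 : ℕ := 0x0

noncomputable def tT1 : ℕ := 0x0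

noncomputable def tT2 : ℕ := 0x0

noncomputable def tT3 : ℕ := 0x0

noncomputable def tT4 : ℕ := 0x0

noncomputable def tT5 : ℕ := 0x0

noncomputable def tTsel (g : ℕ) : ℕ := bif Nat.beq g 0 then tT0 else bif Nat.beq g 1 then tT1 else bif Nat.beq g 2 then tT2 else bif Nat.beq g 3 then tT3 else bif Nat.beq g 4 then tT4 else tT5

noncomputable def tT (g c : ℕ) : ℕ := Nat.land (Nat.shiftRight (tTsel g) (16 * c)) 65535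

noncomputable def tM0 : ℕ := 0x3

noncomputable def tM1 : ℕ := 0x2

noncomputable def tM2 : ℕ := 0x1

noncomputable def tM3 : ℕ := 0x6

noncomputable def tM4 : ℕ := 0x5

noncomputable def tM5 : ℕ := 0x4

noncomputable def tMsel (g : ℕ) : ℕ := bif Nat.beq g 0 then tM0 else bif Nat.beq g 1 then tM1 else bif Nat.beq g 2 then tM2 else bif Nat.beq g 3 then tM3 else bif Nat.beq g 4 then tM4 else tM5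

noncomputable def tM (g c : ℕ) : ℕ := Nat.land (Nat.shiftRight (tMsel g) (8 * c)) 255

noncomputable def tJ0 : ℕ := 0x202

noncomputable def tJ1 : ℕ := 0x102

noncomputable def tJ2 : ℕ := 0x2

noncomputable def tJ3 : ℕ := 0x502

noncomputable def tJ4 : ℕ := 0x402

noncomputable def tJ5 : ℕ := 0x302

noncomputable def tJsel (g : ℕ) : ℕ := bif Nat.beq g 0 then tJ0 else bif Nat.beq g 1 then tJ1 else bif Nat.beq g 2 then tJ2 else bif Nat.beq g 3 then tJ3 else bif Nat.beq g 4 then tJ4 else tJ5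

noncomputable def tJ (g c : ℕ) : ℕ := Nat.land (Nat.shiftRight (tJsel g) (16 * c)) 65535

noncomputable def tPA0 : ℕ := 0x0
noncomputable def tPA (c : ℕ) : ℕ := Nat.land (Nat.shiftRight tPA0 (8 * c)) 255

def patch0d0 : List (ℕ × ℕ) := [(0,1),(0,2),(2,1),(3,2),(4,1)]

def patch0f0 : List Fact := [(0,1,1,0,[],[]),(0,2,2,0,[],[]),(2,1,3,0,[],[]),(3,2,4,0,[],[]),(4,1,5,0,[],[]),(5,2,1,9,[(1,0,1),(1,0,2),(1,0,3),(1,0,4)],[(1,0,0)]),(2,6,0,27,[(1,0,1),(1,0,2),(1,0,3),(1,0,4),(1,0,5),(2,0,0),(1,0,1)],[]),(2,6,0,1,[(1,0,6)],[]),(0,2,0,1,[(2,0,7),(2,0,1)],[]),(0,2,0,1,[(2,0,8)],[])]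

def patch0 : Patch := (patch0d0, patch0f0)

def patch1d0 : List (ℕ × ℕ) := [(0,1),(1,2)]

def patch1f0 : List Fact := [(0,1,1,0,[],[]),(1,2,2,0,[],[]),(2,1,2,9,[(0,2,0),(1,0,0),(1,0,1)],[(1,0,0),(1,0,1)]),(2,6,0,25,[(1,0,0),(1,0,1),(2,0,2),(2,0,1),(2,0,0),(0,2,0),(1,0,0),(1,0,1)],[]),(2,6,0,1,[(1,0,3)],[]),(0,1,0,1,[(2,0,4),(2,0,2),(1,0,4)],[]),(1,6,0,1,[(2,0,0),(1,0,5)],[]),(1,6,0,1,[(1,0,6)],[]),(0,1,0,1,[(2,0,7),(2,0,0)],[]),(0,1,0,1,[(2,0,8)],[])]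

def patch1 : Patch := (patch1d0, patch1f0)

def patch2d0 : List (ℕ × ℕ) := [(0,0),(0,3),(0,5),(3,0),(2,2),(5,1),(6,3),(7,2),(6,2)]

def patch2f0 : List Fact := [(0,0,1,0,[],[]),(0,3,2,0,[],[]),(0,5,3,0,[],[]),(3,0,4,0,[],[]),(4,5,1,7,[(1,0,2),(1,0,3)],[(1,0,0)]),(2,1,2,10,[(1,0,1)],[(0,1,0),(1,0,1)]),(3,1,3,12,[(1,0,2)],[(0,1,0),(1,0,2)]),(2,2,5,0,[],[]),(5,1,6,0,[],[]),(6,3,7,0,[],[]),(7,2,8,0,[],[]),(8,1,4,24,[(1,0,1),(1,0,7),(1,0,8),(1,0,9),(1,0,10)],[(1,0,0),(2,0,4)]),(6,2,9,0,[],[]),(8,0,8,3,[(2,0,6),(1,0,3),(2,0,11)],[(1,0,3),(2,0,11)]),(9,6,6,9,[(1,0,7),(1,0,8),(1,0,12)],[(2,0,5),(1,0,7),(1,0,8)]),(9,6,6,1,[(1,0,14)],[]),(6,2,6,1,[(2,0,15),(2,0,12)],[]),(5,6,2,27,[(1,0,7),(1,0,8),(2,0,16),(2,0,8),(2,0,7),(2,0,5),(1,0,7)],[]),(5,6,2,1,[(1,0,17)],[]),(2,1,6,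1,[(2,0,18),(1,0,8)],[]),(2,6,6,1,[(1,0,5),(1,0,19)],[]),(6,6,2,1,[(2,0,20)],[]),(2,3,7,1,[(2,0,21),(1,0,9)],[]),(0,6,7,1,[(1,0,1),(1,0,22)],[]),(7,6,0,1,[(2,0,23)],[]),(0,2,8,1,[(2,0,24),(1,0,10)],[]),(0,6,8,1,[(0,2,0),(1,0,25)],[]),(8,6,0,1,[(2,0,26)],[]),(0,0,0,1,[(2,0,27),(2,0,13),(1,0,27)],[]),(1,6,0,1,[(2,0,0),(1,0,28)],[]),(1,6,0,1,[(1,0,29)],[]),(0,0,0,1,[(2,0,30),(2,0,0)],[]),(0,0,0,1,[(2,0,31)],[])]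

def patch2 : Patch := (patch2d0, patch2f0)

def patch3d0 : List (ℕ × ℕ) := [(0,3),(0,5),(2,3),(1,2),(4,3),(5,2),(6,3)]

def patch3f0 : List Fact := [(0,3,1,0,[],[]),(0,5,2,0,[],[]),(2,1,2,12,[(1,0,1)],[(0,1,0),(1,0,1)]),(2,2,2,16,[(1,0,1)],[(0,2,0),(1,0,1)]),(2,3,3,0,[],[]),(1,2,4,0,[],[]),(4,1,3,24,[(1,0,0),(1,0,5)],[(0,0,0),(1,0,1),(2,0,2),(2,0,3),(1,0,4)]),(4,3,5,0,[],[]),(5,2,6,0,[],[]),(6,3,7,0,[],[]),(7,2,3,23,[(0,2,0),(1,0,0),(1,0,5),(1,0,7),(1,0,8),(1,0,9)],[(0,0,0),(1,0,1),(1,0,4)]),(2,6,0,26,[(0,1,0),(0,2,0),(1,0,0),(1,0,5),(1,0,6),(2,0,10),(2,0,9),(2,0,8),(2,0,7),(2,0,5),(2,0,0),(0,2,0),(0,1,0),(0,2,0),(1,0,0),(1,0,5),(1,0,6),(2,0,4)],[]),(2,6,0,1,[(1,0,11)],[]),(0,5,0,1,[(2,0,12),(2,0,1)],[]),(0,5,0,1,[(2,0,13)],[])]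

def patch3 : Patch := (patch3d0, patch3f0)

def patch4d0 : List (ℕ × ℕ) := [(0,4),(1,3),(1,5),(3,3),(2,2),(5,3),(6,2),(7,3)]

def patch4f0 : List Fact := [(0,4,1,0,[],[]),(1,0,1,6,[(1,0,0)],[(0,0,0),(1,0,0)]),(1,1,1,11,[(1,0,0)],[(0,1,0),(1,0,0)]),(1,2,1,15,[(1,0,0)],[(0,2,0),(1,0,0)]),(1,3,2,0,[],[]),(1,5,3,0,[],[]),(3,4,3,21,[(0,5,0),(1,0,0),(1,0,5)],[(1,0,0),(1,0,5)]),(3,1,3,12,[(1,0,5)],[(2,0,2),(1,0,5)]),(3,2,3,16,[(1,0,5)],[(2,0,3),(1,0,5)]),(3,3,4,0,[],[]),(2,2,5,0,[],[]),(5,1,4,24,[(1,0,4),(1,0,10)],[(2,0,1),(1,0,5),(2,0,7),(2,0,8),(1,0,9)]),(5,3,6,0,[],[]),(6,2,7,0,[],[]),(7,3,8,0,[],[]),(8,2,4,23,[(2,0,3),(1,0,4),(1,0,10),(1,0,12),(1,0,13),(1,0,14)],[(2,0,1),(1,0,5),(1,0,9)]),(3,6,1,26,[(2,0,2),(2,0,3),(1,0,4),(1,0,10),(1,0,11),(2,0,15),(2,0,14),(2,0,13),(2,0,12),(2,0,10),(2,0,4),(2,0,3),(2,0,2),(2,0,3),(1,0,4),(1,0,10),(1,0,11),(2,0,9)],[]),(3,6,1,1,[(1,0,16)],[]),(1,4,1,1,[(2,0,17),(2,0,6),(1,0,17)],[]),(0,6,1,1,[(1,0,0),(1,0,18)],[]),(1,6,0,1,[(2,0,19)],[]),(0,4,0,1,[(2,0,20),(2,0,0)],[]),(0,4,0,1,[(2,0,21)],[])]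

def patch4 : Patch := (patch4d0, patch4f0)

def patch5d0 : List (ℕ × ℕ) := [(0,3),(1,4),(2,1),(3,2),(4,3),(5,4),(6,3),(7,1)]

def patch5f0 : List Fact := [(0,3,1,0,[],[]),(1,1,1,10,[(1,0,0)],[(0,1,0),(1,0,0)]),(1,4,2,0,[],[]),(2,3,2,18,[(0,4,0),(1,0,0),(1,0,2)],[(1,0,0),(1,0,2)]),(1,2,1,24,[(1,0,0)],[(0,0,0),(0,5,0),(0,1,0),(0,2,0),(1,0,0),(2,0,1)]),(2,1,3,0,[],[]),(3,2,4,0,[],[]),(4,3,5,0,[],[]),(5,4,6,0,[],[]),(6,3,7,0,[],[]),(7,1,8,0,[],[]),(8,2,2,28,[(1,0,0),(2,0,1),(2,0,4),(1,0,2),(1,0,5),(1,0,6),(1,0,7),(1,0,8),(1,0,9),(1,0,10)],[(1,0,0),(2,0,4),(2,0,1),(1,0,2)]),(3,6,2,11,[(1,0,2),(1,0,5)],[(2,0,1),(1,0,2)]),(3,6,2,1,[(1,0,12)],[]),(2,1,2,1,[(2,0,13),(2,0,5)],[]),(2,2,4,1,[(2,0,13),(1,0,6)],[]),(8,6,4,1,[(1,0,11),(1,0,15)],[]),(8,6,4,1,[(1,0,16)],[]),(4,1,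7,1,[(2,0,17),(2,0,10)],[]),(4,2,2,1,[(2,0,17),(1,0,11)],[]),(4,6,2,15,[(1,0,2),(2,0,19)],[(2,0,4),(1,0,2)]),(4,6,2,1,[(1,0,20)],[]),(2,1,7,1,[(2,0,21),(1,0,18)],[]),(2,6,7,1,[(1,0,14),(1,0,22)],[]),(2,3,5,1,[(2,0,21),(1,0,7)],[]),(2,6,5,1,[(1,0,3),(1,0,24)],[]),(7,6,2,1,[(2,0,23)],[]),(2,3,6,1,[(2,0,26),(2,0,9)],[]),(2,6,6,1,[(1,0,3),(1,0,27)],[]),(5,6,2,1,[(2,0,25)],[]),(2,4,6,1,[(2,0,29),(1,0,8)],[]),(1,6,6,1,[(1,0,2),(1,0,30)],[]),(6,6,2,1,[(2,0,28)],[]),(2,6,1,1,[(2,0,32),(2,0,31)],[]),(1,3,1,1,[(2,0,33),(2,0,3),(1,0,33)],[]),(0,6,1,1,[(1,0,0),(1,0,34)],[]),(1,6,0,1,[(2,0,35)],[]),(0,3,0,1,[(2,0,36),(2,0,0)],[]),(0,3,0,1,[(2,0,37)],[])]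

def patch5 : Patch := (patch5d0, patch5f0)

def words : List (List ℕ) := [
  [0,0],
  [1,0,1,0,1,0],
  [2,0,2,0],
  [3,0,3,0],
  [4,0,4,0],
  [5,0,5,0],
  [1,1],
  [2,1,2,1,2,1],
  [3,1,3,1],
  [4,1,4,1],
  [5,1,5,1],
  [2,2],
  [3,2,3,2,3,2,3,2,3,2,3,2,3,2,3,2],
  [4,2,4,2],
  [5,2,5,2],
  [3,3],
  [4,3,4,3,4,3],
  [5,3,5,3],
  [4,4],
  [5,4,5,4,5,4],
  [5,5],
  [2,3,2,3,2,3,2,3,5,0],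
  [3,2,1,3,2,1,5,0],
  [1,2,1,2,1,2,1,2],
  [1,2,3,2,1,2,3,2,3,2,3,2,1,2,3,2,1,3],
  [2,1,2,1,2,1,2],
  [3,1,2,4,1,2,3,4,3,1,2,4,1,2,3]]

def data : Data := ⟨1, 6, tT, tM, tJ, tPA, words, 27, [patch0, patch1, patch2, patch3, patch4, patch5]⟩


end

end ONHD
end H93
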